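import Groth.Prelude.Def_W4c1etcurveeff2TopGrp
import Mathlib.GroupTheory.FiniteAbelian.Duality
import Mathlib.GroupTheory.FiniteAbelian.Basic
import Mathlib.GroupTheory.Abelianization.Defs
import Mathlib.Topology.Algebra.Group.Quotient
import Mathlib.Topology.Algebra.Group.ClosedSubgroup

set_option autoImplicit false

open W4c1etcurveeff2

namespace Groth.Agent.PowCommDual

universe u

lemma hasEnough (n : ℕ) [NeZero n] : HasEnoughRootsOfUnity (Multiplicative (ZMod n)) n where
  prim := ⟨Multiplicative.ofAdd 1, by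
    have h : orderOf (Multiplicative.ofAdd (1 : ZMod n)) = n := by
      rw [orderOf_ofAdd_eq_addOrderOf, ZMod.addOrderOf_one]
    have := IsPrimitiveRoot.orderOf (Multiplicative.ofAdd (1 : ZMod n))
    rwa [h] at this⟩
  cyc := by
    haveI : IsCyclic (Multiplicative (ZMod n))ˣ :=
      isCyclic_of_surjective (toUnits (G := Multiplicative (ZMod n))) (MulEquiv.surjective _)
    infer_instance

lemma pow_n (n : ℕ) [NeZero n] (x : Multiplicative (ZMod n)) : x ^ n = 1 := by
  apply Multiplicative.toAdd.injective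
  simp [nsmul_eq_mul]

variable {G : Type u} [Group G] [TopologicalSpace G] [IsTopologicalGroup G] {n : ℕ}

lemma pow_mem (g : G) : g ^ n ∈ powCommClosure G n :=
  Subgroup.le_topologicalClosure _ (Subgroup.mem_sup_left (Subgroup.subset_closure ⟨g, rfl⟩))

lemma comm_le : commutator G ≤ powCommClosure G n :=
  le_sup_right.trans (Subgroup.le_topologicalClosure _)

lemma normal : (powCommClosure G n).Normal :=
  ⟨fun s hs g => by
    have h : g * s * g⁻¹ * s⁻¹ ∈ powCommClosure G n :=
      comm_le (by
        rw [commutator_def]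
        exact Subgroup.commutator_mem_commutator (Subgroup.mem_top g) (Subgroup.mem_top s))
    simpa using mul_mem h hs⟩

lemma isClosed' : IsClosed (powCommClosure G n : Set G) :=
  Subgroup.isClosed_topologicalClosure _

lemma le_of_closed (H : Subgroup G) (hH : IsClosed (H : Set G))
    (hp : ∀ g : G, g ^ n ∈ H) (hc : ∀ a b : G, a * b * a⁻¹ * b⁻¹ ∈ H) :
    powCommClosure G n ≤ H := by
  refine Subgroup.topologicalClosure_minimal _ (sup_le ?_ ?_) hH
  · rw [Subgroup.closure_le]
    rintro _ ⟨g, rfl⟩
    exact hp g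
  · rw [commutator_def, Subgroup.commutator_le]
    exact fun a _ b _ => hc a b

variable [NeZero n]

lemma le_ker (χ : G →* Multiplicative (ZMod n)) (hχ : IsOpen ((χ.ker : Subgroup G) : Set G)) :
    powCommClosure G n ≤ χ.ker := by
  refine le_of_closed _ (Subgroup.isClosed_of_isOpen _ hχ) (fun g => ?_) fun a b => ?_
  · rw [MonoidHom.mem_ker, map_pow, pow_n]
  · rw [MonoidHom.mem_ker]
    simp [map_mul, map_inv, mul_comm (χ a) (χ b)]

theorem main (s : Finset G) (hs : Dense ((Subgroup.closure (s : Set G) : Subgroup G) : Set G))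
    (S : Subgroup G) (hS : S = powCommClosure G n) :
    (∀ φ : G ≃* G, Continuous φ → Continuous φ.symm → S.map φ.toMonoidHom = S) ∧
    (∀ g : G, g ∈ S ↔
        ∀ χ : G →* Multiplicative (ZMod n), IsOpen ((χ.ker : Subgroup G) : Set G) → χ g = 1) ∧
    (∀ F : ContChar G n →* Multiplicative (ZMod n), ∃ g : G,
        ∀ χ : ContChar G n, F χ = (χ.1 : G →* Multiplicative (ZMod n)) g) ∧
    (∀ (H : Subgroup G) [H.Normal], IsClosed (H : Set G) →
        Nonempty (G ⧸ H ≃* (ContChar G n →* Multiplicative (ZMod n))) → H = S) := by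
  classical
  subst hS
  haveI := normal (G := G) (n := n)
  set S := powCommClosure G n with hSdef
  letI : CommGroup (G ⧸ S) :=
    { (inferInstance : Group (G ⧸ S)) with
      mul_comm := fun x y => QuotientGroup.induction_on x fun a => QuotientGroup.induction_on y
        fun b => by
          rw [← QuotientGroup.mk_mul, ← QuotientGroup.mk_mul, QuotientGroup.eq]
          refine comm_le ?_
          rw [commutator_def]
          have := Subgroup.commutator_mem_commutator (Subgroup.mem_top b⁻¹) (Subgroup.mem_top a⁻¹)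
          simpa [commutatorElement_def, mul_assoc] using this }
  have hexp : ∀ x : G ⧸ S, x ^ n = 1 := fun x => QuotientGroup.induction_on x fun a => by
    rw [← QuotientGroup.mk_pow, QuotientGroup.eq_one_iff]
    exact pow_mem a
  -- finiteness
  let T : Subgroup (G ⧸ S) := (Subgroup.closure (s : Set G)).map (QuotientGroup.mk' S)
  haveI : Group.FG T := by
    rw [Group.fg_iff_subgroup_fg]
    exact ⟨s.image (QuotientGroup.mk' S), by simp [T, MonoidHom.map_closure]⟩
  have hTfin : (T : Set (G ⧸ S)).Finite := by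
    haveI : Finite T := CommGroup.finite_of_fg_torsion T fun x =>
      isOfFinOrder_iff_pow_eq_one.2 ⟨n, NeZero.pos n, Subtype.ext (hexp x)⟩
    exact Set.toFinite _
  have hTclosed : IsClosed ((QuotientGroup.mk : G → G ⧸ S) ⁻¹' (T : Set (G ⧸ S))) := by
    rw [← Set.biUnion_preimage_singleton]
    refine hTfin.isClosed_biUnion fun x _ => ?_
    obtain ⟨a, rfl⟩ := QuotientGroup.mk_surjective x
    have : (QuotientGroup.mk : G → G ⧸ S) ⁻¹' {QuotientGroup.mk a} = (fun g => a⁻¹ * g) ⁻¹' S := by
      ext g
      rw [Set.mem_preimage, Set.mem_singleton_iff, eq_comm, QuotientGroup.eq]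
      rfl
    rw [this]
    exact (isClosed' (G := G) (n := n)).preimage (continuous_const.mul continuous_id)
  have hTtop : ∀ x : G ⧸ S, x ∈ T := fun x => QuotientGroup.induction_on x fun a =>
    closure_minimal (s := ((Subgroup.closure (s : Set G) : Subgroup G) : Set G))
      (t := (QuotientGroup.mk : G → G ⧸ S) ⁻¹' (T : Set (G ⧸ S)))
      (fun g hg => (⟨g, hg, rfl⟩ : (QuotientGroup.mk g : G ⧸ S) ∈ T)) hTclosed (hs a)
  haveI hfinA : Finite (G ⧸ S) :=
    Set.finite_univ_iff.1 (hTfin.subset fun x _ => hTtop x)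
  have hSopen : IsOpen (S : Set G) := by
    haveI : S.FiniteIndex := Subgroup.finiteIndex_of_finite_quotient
    exact Subgroup.isOpen_of_isClosed_of_finiteIndex S isClosed'
  haveI := hasEnough n
  haveI hM : HasEnoughRootsOfUnity (Multiplicative (ZMod n)) (Monoid.exponent (G ⧸ S)) :=
    HasEnoughRootsOfUnity.of_dvd _ (Monoid.exponent_dvd_of_forall_pow_eq_one hexp)
  let mk := QuotientGroup.mk' S
  have hopen : ∀ ψ : (G ⧸ S) →* Multiplicative (ZMod n), IsOpen ((ψ.comp mk).ker : Set G) := by
    intro ψ
    refine Subgroup.isOpen_mono (H₁ := S) (fun g hg => ?_) hSopen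
    show ψ (QuotientGroup.mk g) = 1
    rw [(QuotientGroup.eq_one_iff g).2 hg, map_one]
  have hmem : ∀ g : G, g ∈ S ↔
      ∀ χ : G →* Multiplicative (ZMod n), IsOpen ((χ.ker : Subgroup G) : Set G) → χ g = 1 := by
    refine fun g => ⟨fun hg χ hχ => le_ker χ hχ hg, fun h => ?_⟩
    by_contra hg
    obtain ⟨ψ, hψ⟩ := CommGroup.exists_apply_ne_one_of_hasEnoughRootsOfUnity (G ⧸ S)
      (Multiplicative (ZMod n)) (a := QuotientGroup.mk g)
      (fun e => hg ((QuotientGroup.eq_one_iff g).1 e))
    apply hψ
    apply Units.ext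
    exact h ((((Units.coeHom _).comp ψ)).comp mk) (hopen _)
  refine ⟨?_, hmem, ?_, ?_⟩
  · intro φ hφ hφ'
    have key : ∀ ψ : G ≃* G, Continuous ψ → ∀ g ∈ S, ψ g ∈ S := fun ψ hψ g hg =>
      (hmem _).2 fun χ hχ => (hmem g).1 hg (χ.comp ψ.toMonoidHom) (hχ.preimage hψ)
    refine le_antisymm (Subgroup.map_le_iff_le_comap.2 fun g hg => key φ hφ g hg) fun g hg =>
      ⟨φ.symm g, key φ.symm hφ' g hg, φ.apply_symm_apply g⟩
  · intro F
    let toChar : ((G ⧸ S) →* (Multiplicative (ZMod n))ˣ) →* ContChar G n :=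
      MonoidHom.mk' (fun ψ => ⟨((Units.coeHom _).comp ψ).comp mk, hopen _⟩)
        fun a b => Subtype.ext (MonoidHom.ext fun g => rfl)
    let η : ((G ⧸ S) →* (Multiplicative (ZMod n))ˣ) →* (Multiplicative (ZMod n))ˣ :=
      toUnits.toMonoidHom.comp (F.comp toChar)
    obtain ⟨g, hg⟩ := QuotientGroup.mk_surjective
      (CommGroup.monoidHomMonoidHomEquiv (G ⧸ S) (Multiplicative (ZMod n)) η)
    refine ⟨g, fun χ => ?_⟩
    let ψ : (G ⧸ S) →* (Multiplicative (ZMod n))ˣ :=
      toUnits.toMonoidHom.comp (QuotientGroup.lift S χ.1 (le_ker χ.1 χ.2))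
    have h1 := CommGroup.apply_monoidHomMonoidHomEquiv (Multiplicative (ZMod n)) ψ η
    rw [← hg] at h1
    have h2 : toChar ψ = χ := Subtype.ext (MonoidHom.ext fun a => rfl)
    have h3 := congrArg (Units.val) h1
    simp only [η, MonoidHom.comp_apply, h2] at h3
    exact h3.symm
  · intro H _ hH ⟨e⟩
    have hcommH : ∀ x y : G ⧸ H, x * y = y * x := fun x y => e.injective (by
      rw [map_mul, map_mul, mul_comm])
    have hle : S ≤ H := by
      refine le_of_closed H hH (fun g => ?_) fun a b => ?_
      · rw [← QuotientGroup.eq_one_iff, QuotientGroup.mk_pow]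
        apply e.injective
        rw [map_pow, map_one]
        ext χ
        rw [MonoidHom.pow_apply, pow_n, MonoidHom.one_apply]
      · rw [← QuotientGroup.eq_one_iff, QuotientGroup.mk_mul, QuotientGroup.mk_mul,
          QuotientGroup.mk_mul, QuotientGroup.mk_inv, QuotientGroup.mk_inv,
          hcommH (QuotientGroup.mk a) (QuotientGroup.mk b)]
        simp
    let E : (G ⧸ S) →* (ContChar G n →* Multiplicative (ZMod n)) := MonoidHom.mk'
      (fun x => MonoidHom.mk' (fun χ => QuotientGroup.lift S χ.1 (le_ker χ.1 χ.2) x)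
        (fun a b => QuotientGroup.induction_on x fun g => rfl))
      (fun x y => MonoidHom.ext fun χ => map_mul (QuotientGroup.lift S χ.1 (le_ker χ.1 χ.2)) x y)
    have hEinj : Function.Injective E := by
      rw [injective_iff_map_eq_one]
      intro x hx
      induction x using QuotientGroup.induction_on with
      | _ g =>
        rw [QuotientGroup.eq_one_iff]
        exact (hmem g).2 fun χ hχ => DFunLike.congr_fun hx ⟨χ, hχ⟩
    haveI : Finite (G ⧸ H) := by
      exact Finite.of_surjective (QuotientGroup.map S H (MonoidHom.id G) hle)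
        fun x => QuotientGroup.induction_on x fun g => ⟨QuotientGroup.mk g, rfl⟩
    haveI : Finite (ContChar G n →* Multiplicative (ZMod n)) := Finite.of_equiv _ e.toEquiv
    haveI : S.FiniteIndex := Subgroup.finiteIndex_of_finite_quotient
    have hidx : S.index ≤ H.index :=
      (Nat.card_le_card_of_injective E hEinj).trans (Nat.card_congr e.toEquiv).ge
    exact (eq_of_le_of_not_lt hle fun h => (Subgroup.index_strictAnti h).not_ge hidx).symm

end Groth.Agent.PowCommDual
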